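import Cfsg.Agent.Lib.InvChar.SporData.HeZ.F0

set_option autoImplicit false
set_option maxRecDepth 100000

namespace CfsgLib.InvChar.Coset.HeZ

theorem facts_ok : ∀ j < 2, cert.chkRun 128 (j * 128) (cert.just.get j) = true := by
  intro j hj
  rcases Nat.lt_or_ge j 2 with h0 | h0
  · obtain ⟨i, rfl⟩ : ∃ i, j = 0 + i := ⟨j - 0, by omega⟩
    exact chkBlocks_get (D := cert) 2 0 chk_facts0 i (by omega)
  omega

theorem goal_ok : cert.chkGoal 176 16 0xaf0000e0000d0000c0000b0000a00009000080000700006000050000400003000020000100000 [2, 3, 2, 3, 4, 3, 2, 3, 2, 3, 4, 3, 2, 3, 4] = true := by decide +kernel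

end CfsgLib.InvChar.Coset.HeZ
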